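import Groth.Agent.Lib.DualCx22.DualityCompletion
import Groth.Agent.Lib.RGamma.Sup
import Groth.Agent.Lib.FaltingsT3.Main
import Groth.Agent.Lib.FaltingsT3.Compare
import Groth.Agent.Lib.FaltingsD3.Bridge
import Mathlib.Algebra.Homology.DerivedCategory.FullyFaithful

/-!
# Killing the cohomology of derived completions
-/

set_option autoImplicit false
set_option linter.style.haveILetI false
universe u

open CategoryTheory CategoryTheory.Limits Pretriangulated PrimeSpectrum GrothLib.DualCx22 GrothLib.DualRing GrothLib.FaltingsT3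

attribute [local instance] HasDerivedCategory.standard

namespace GrothLib.KillCompl3

variable {A : Type u} [CommRing A]

theorem smul_id_eq_zero_single (X : Dual.D A) (a : ℤ) [X.IsGE a] [X.IsLE a] (c : A)
    (h : ∀ x : Dual.HD A X a, c • x = 0) : c • 𝟙 X = 0 := by
  obtain ⟨M, ⟨e⟩⟩ := DerivedCategory.exists_iso_singleFunctor_obj_of_isGE_of_isLE X a
  let eM : Dual.HD A X a ≃ₗ[A] M := ((DerivedCategory.homologyFunctor (ModuleCat.{u} A) a).mapIso e ≪≫
    (DerivedCategory.singleFunctorCompHomologyFunctorIso (ModuleCat.{u} A) a).app M).toLinearEquiv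
  have hM : c • 𝟙 M = 0 := ModuleCat.hom_ext (LinearMap.ext fun x => by
    obtain ⟨y, rfl⟩ := eM.surjective x
    show c • eM y = 0
    rw [← map_smul, h y, map_zero])
  have h0 : c • 𝟙 ((DerivedCategory.singleFunctor (ModuleCat.{u} A) a).obj M) = 0 := by
    rw [← CategoryTheory.Functor.map_id, ← Functor.map_smul, hM, Functor.map_zero]
  calc c • 𝟙 X = e.hom ≫ (c • 𝟙 _) ≫ e.inv := by simp
    _ = 0 := by rw [h0, zero_comp, comp_zero]

theorem smul_id_eq_zero_of_triangle (T : Triangle (Dual.D A)) (hT : T ∈ distTriang _) (a b : A)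
    (ha : a • 𝟙 T.obj₁ = 0) (hb : b • 𝟙 T.obj₃ = 0) : (a * b) • 𝟙 T.obj₂ = 0 := by
  have h0 : (b • 𝟙 T.obj₂) ≫ T.mor₂ = 0 := by
    rw [Linear.smul_comp, Category.id_comp]
    calc b • T.mor₂ = T.mor₂ ≫ (b • 𝟙 T.obj₃) := by rw [Linear.comp_smul, Category.comp_id]
      _ = 0 := by rw [hb, comp_zero]
  obtain ⟨z, hz⟩ := Triangle.coyoneda_exact₂ T hT _ h0
  rw [mul_smul, hz]
  calc a • (z ≫ T.mor₁) = z ≫ (a • 𝟙 T.obj₁) ≫ T.mor₁ := by simp
    _ = 0 := by rw [ha, zero_comp, comp_zero]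

/-- A power of `f` is zero on a bounded object whose cohomology is killed by powers of `f`. -/
theorem exists_pow_smul_id (f : A) : ∀ (n : ℕ) (X : Dual.D A) (a : ℤ), X.IsGE a → X.IsLE (a + n) →
    (∀ j, ∃ k : ℕ, ∀ x : Dual.HD A X j, f ^ k • x = 0) → ∃ N : ℕ, f ^ N • 𝟙 X = 0 := by
  intro n
  induction n with
  | zero =>
    intro X a hge hle hk
    haveI := hge
    haveI : X.IsLE a := by simpa using hle
    obtain ⟨k, hk⟩ := hk a
    exact ⟨k, smul_id_eq_zero_single X a _ hk⟩
  | succ n ih =>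
    intro X a hge hle hk
    haveI := hge
    haveI := hle
    obtain ⟨X', Y, hX', hY, f₁, g₁, h₁, mem⟩ := DerivedCategory.TStructure.t.exists_triangle X a (a + 1) rfl
    haveI : X'.IsLE a := ⟨hX'⟩
    haveI : Y.IsGE (a + 1) := ⟨hY⟩
    have hinj : ∀ i, Function.Injective ((DerivedCategory.homologyFunctor (ModuleCat.{u} A) i).map f₁).hom := by
      intro i
      by_cases hi : i ≤ a
      · rw [← ModuleCat.mono_iff_injective]
        refine (DerivedCategory.HomologySequence.mono_homologyMap_mor₁_iff (Triangle.mk f₁ g₁ h₁) mem (i - 1) i (by omega)).2 ?_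
        exact (DerivedCategory.isZero_of_isGE Y (a + 1) (i - 1) (by omega)).eq_of_src _ _
      · intro x y _
        haveI : Subsingleton (Dual.HD A X' i) :=
          ModuleCat.subsingleton_of_isZero (DerivedCategory.isZero_of_isLE X' a i (by omega))
        exact Subsingleton.elim (α := Dual.HD A X' i) x y
    have hsurj : ∀ i, Function.Surjective ((DerivedCategory.homologyFunctor (ModuleCat.{u} A) i).map g₁).hom := by
      intro i
      by_cases hi : a ≤ i
      · rw [← ModuleCat.epi_iff_surjective]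
        refine (DerivedCategory.HomologySequence.epi_homologyMap_mor₂_iff (Triangle.mk f₁ g₁ h₁) mem i (i + 1) rfl).2 ?_
        exact (DerivedCategory.isZero_of_isLE X' a (i + 1) (by omega)).eq_of_tgt _ _
      · intro x
        haveI : Subsingleton (Dual.HD A Y i) :=
          ModuleCat.subsingleton_of_isZero (DerivedCategory.isZero_of_isGE Y (a + 1) i (by omega))
        exact ⟨0, Subsingleton.elim (α := Dual.HD A Y i) _ _⟩
    haveI : X'.IsGE a := by
      rw [DerivedCategory.isGE_iff]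
      intro i hi
      haveI : Subsingleton (Dual.HD A X i) :=
        ModuleCat.subsingleton_of_isZero (DerivedCategory.isZero_of_isGE X a i hi)
      haveI : Subsingleton (Dual.HD A X' i) := (hinj i).subsingleton
      exact ModuleCat.isZero_of_subsingleton _
    have hYle : Y.IsLE (a + 1 + n) := by
      rw [DerivedCategory.isLE_iff]
      intro i hi
      haveI : Subsingleton (Dual.HD A X i) :=
        ModuleCat.subsingleton_of_isZero (DerivedCategory.isZero_of_isLE X (a + ((n + 1 : ℕ) : ℤ)) i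
          (by push_cast; omega))
      haveI : Subsingleton (Dual.HD A Y i) := (hsurj i).subsingleton
      exact ModuleCat.isZero_of_subsingleton _
    obtain ⟨N₁, hN₁⟩ : ∃ N : ℕ, f ^ N • 𝟙 X' = 0 := by
      obtain ⟨k, hk⟩ := hk a
      exact ⟨k, smul_id_eq_zero_single X' a _ fun x => hinj a (by rw [map_smul, map_zero]; exact hk _)⟩
    obtain ⟨N₂, hN₂⟩ := ih Y (a + 1) inferInstance hYle fun j => by
      obtain ⟨k, hk⟩ := hk j
      exact ⟨k, fun x => by obtain ⟨y, rfl⟩ := hsurj j x; exact (map_smul _ _ _).symm.trans ((congrArg _ (hk y)).trans (map_zero _))⟩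
    exact ⟨N₁ + N₂, by rw [pow_add]; exact smul_id_eq_zero_of_triangle (Triangle.mk f₁ g₁ h₁) mem _ _ hN₁ hN₂⟩

variable [IsNoetherianRing A]

/-- Local cohomology of a module is the cohomology of `RΓ`. -/
theorem nonempty_HD_rgamma (J : Ideal A) [DRing.HasRgammaI J] (M : Type u) [AddCommGroup M] [Module A M] (i : ℕ) :
    Nonempty (Dual.HD A ((DRing.RgammaI J).obj (Dual.inD A M)) (i : ℤ) ≃ₗ[A] LocCoh.H J i M) := by
  obtain ⟨e₁⟩ := GrothLib.RGamma.nonempty_HD_equiv_HDI J (Dual.inD A M) (i : ℤ)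
  obtain ⟨e₂⟩ := nonempty_LCH_equiv_HDI J M i
  exact ⟨e₁.trans e₂.symm⟩

theorem subsingleton_HD_rgamma_neg (J : Ideal A) [DRing.HasRgammaI J] (M : Type u) [AddCommGroup M] [Module A M]
    (i : ℤ) (hi : i < 0) : Subsingleton (Dual.HD A ((DRing.RgammaI J).obj (Dual.inD A M)) i) := by
  obtain ⟨P⟩ := GrothLib.FaltingsD3.nonempty_modelOf (Dual.inD A M) 0
    fun j hj => GrothLib.DR.subsingleton_HD_inD (A := A) M j hj.ne
  obtain ⟨e₁⟩ := GrothLib.RGamma.nonempty_HD_equiv_HDI J (Dual.inD A M) i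
  obtain ⟨e₂⟩ := P.nonempty_equivI (i - 1) (by omega) J i 0 (by simp)
  haveI := P.subsingleton_HG_zero (T := zeroLocus (J : Set A)) i hi
  exact (e₁.trans e₂).toEquiv.subsingleton

/-- A power of an element killing low local cohomology kills low cohomology of the completion. -/
theorem exists_pow_killing_completion (I J : Ideal A) [DRing.HasRgammaI J] [DRing.HasDerivedCompletion I]
    (M : Type u) [AddCommGroup M] [Module A M] (s d : ℕ) (hcd : LocCoh.CdLE A I d) (f : A)
    (hf : ∀ j : ℕ, j ≤ s + d → ∀ x : LocCoh.H (J ⊔ I) j M, f • x = 0) :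
    ∃ N : ℕ, ∀ i : ℤ, i ≤ s → ∀ x : Dual.HD A
      ((DRing.derivedCompletion I).obj ((DRing.RgammaI J).obj (Dual.inD A M))).obj i, f ^ N • x = 0 := by
  haveI := hasRgammaI I
  haveI := hasRgammaI (J ⊔ I)
  let X := (DRing.RgammaI J).obj (Dual.inD A M)
  let W := (DRing.RgammaI I).obj X
  obtain ⟨eW⟩ := GrothLib.RGamma.comp_iso_sup J I (Dual.inD A M)
  obtain ⟨X', Y, hX', hY, f₁, g₁, h₁, mem⟩ :=
    DerivedCategory.TStructure.t.exists_triangle W ((s + d : ℕ) : ℤ) (((s + d : ℕ) : ℤ) + 1) rfl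
  haveI : X'.IsLE ((s + d : ℕ) : ℤ) := ⟨hX'⟩
  haveI : Y.IsGE (((s + d : ℕ) : ℤ) + 1) := ⟨hY⟩
  have hinj : ∀ i, Function.Injective ((DerivedCategory.homologyFunctor (ModuleCat.{u} A) i).map f₁).hom := by
    intro i
    by_cases hi : i ≤ ((s + d : ℕ) : ℤ)
    · rw [← ModuleCat.mono_iff_injective]
      refine (DerivedCategory.HomologySequence.mono_homologyMap_mor₁_iff (Triangle.mk f₁ g₁ h₁) mem (i - 1) i (by omega)).2 ?_
      exact (DerivedCategory.isZero_of_isGE Y (((s + d : ℕ) : ℤ) + 1) (i - 1) (by omega)).eq_of_src _ _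
    · intro x y _
      haveI : Subsingleton (Dual.HD A X' i) :=
        ModuleCat.subsingleton_of_isZero (DerivedCategory.isZero_of_isLE X' ((s + d : ℕ) : ℤ) i (by omega))
      exact Subsingleton.elim (α := Dual.HD A X' i) x y
  haveI : X'.IsGE 0 := by
    rw [DerivedCategory.isGE_iff]
    intro i hi
    haveI := subsingleton_HD_rgamma_neg (J ⊔ I) M i hi
    haveI : Subsingleton (Dual.HD A W i) := (GrothLib.RGamma.hdIso eW i).toEquiv.subsingleton
    haveI : Subsingleton (Dual.HD A X' i) := (hinj i).subsingleton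
    exact ModuleCat.isZero_of_subsingleton _
  obtain ⟨N, hN⟩ := exists_pow_smul_id f (s + d) X' 0 inferInstance (by rw [zero_add]; infer_instance) fun j => by
    refine ⟨1, fun x => hinj j ?_⟩
    rw [pow_one, map_smul, map_zero]
    by_cases hj : 0 ≤ j ∧ j ≤ ((s + d : ℕ) : ℤ)
    · obtain ⟨k, rfl⟩ := Int.eq_ofNat_of_zero_le hj.1
      obtain ⟨e⟩ := nonempty_HD_rgamma (J ⊔ I) M k
      refine ((GrothLib.RGamma.hdIso eW (k : ℤ)).trans e).injective ?_
      rw [map_smul, map_zero]
      exact hf k (by omega) _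
    · haveI : Subsingleton (Dual.HD A X' j) := ModuleCat.subsingleton_of_isZero (by
        by_cases h0 : j < 0
        · exact DerivedCategory.isZero_of_isGE X' 0 j h0
        · exact DerivedCategory.isZero_of_isLE X' ((s + d : ℕ) : ℤ) j (by omega))
      rw [Subsingleton.elim x 0, map_zero, smul_zero]
  refine ⟨N, fun i hi => ?_⟩
  let D := ((DRing.derivedCompletion I).obj X).obj
  suffices hA : ∀ φ : Dual.inD A A ⟶ D⟦i⟧, f ^ N • φ = 0 by
    intro x
    haveI : Projective (ModuleCat.of A A) := (IsProjective.iff_projective (R := A) A).1 inferInstance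
    obtain ⟨φ, hφ⟩ := (GrothLib.DCpl.homHn_bijective (ModuleCat.of A A) D i).2
      (ModuleCat.ofHom (LinearMap.toSpanSingleton A _ x))
    have h := GrothLib.DCpl.homHn_precomp (f ^ N • 𝟙 (ModuleCat.of A A)) φ
    rw [Functor.map_smul, CategoryTheory.Functor.map_id, Linear.smul_comp, Category.id_comp, hφ,
      Linear.smul_comp, Category.id_comp, hA φ] at h
    have h0 : GrothLib.DCpl.homHn (ModuleCat.of A A) D i 0 = 0 := by
      have := GrothLib.DCpl.homHn_precomp (0 : ModuleCat.of A A ⟶ ModuleCat.of A A) φ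
      rwa [Functor.map_zero, zero_comp, zero_comp] at this
    rw [h0] at h
    have h2 := ConcreteCategory.congr_hom h 1
    change (0 : Dual.HD A D i) = f ^ N • ((1 : A) • x) at h2
    rw [one_smul] at h2
    exact h2.symm
  intro φ
  let P := (DRing.RgammaI I).obj (Dual.inD A A)
  let ε := (DRing.RgammaIε I).app (Dual.inD A A)
  have hP : ∀ j, LocCoh.IsPowerTorsion I (Dual.HD A P j) := GrothLib.RGamma.isPowerTorsion_HD I _
  haveI : P.IsLE d := by
    rw [DerivedCategory.isLE_iff]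
    intro j hj
    obtain ⟨k, rfl⟩ := Int.eq_ofNat_of_zero_le (show 0 ≤ j by omega)
    haveI := hcd A k (by omega)
    obtain ⟨e⟩ := nonempty_HD_rgamma I A k
    haveI : Subsingleton (Dual.HD A P (k : ℤ)) := e.toEquiv.subsingleton
    exact ModuleCat.isZero_of_subsingleton _
  refine (GrothLib.RGamma.isCEquiv_ε I (Dual.inD A A) (D⟦i⟧)
    (GrothLib.RGamma.isDerivedComplete_shift I ((DRing.derivedCompletion I).obj X).property i)).1 ?_
  change ε ≫ (f ^ N • φ) = ε ≫ 0
  rw [comp_zero, Linear.comp_smul]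
  have htε : IsTorsEquiv I ((DRing.RgammaIε I).app X) := fun L hL => GrothLib.RGamma.hom_bijective I L X hL
  obtain ⟨w, hw⟩ := (((htε.comp I (isTorsEquiv_toDerivedCompletion I X)).shift I i) P hP).2 (ε ≫ φ)
  dsimp only at hw
  rw [← hw, ← Linear.smul_comp]
  suffices h : f ^ N • w = 0 by rw [h, zero_comp]
  let T := (Triangle.shiftFunctor (Dual.D A) i).obj (Triangle.mk f₁ g₁ h₁)
  have hT : T ∈ distTriang (Dual.D A) := Triangle.shift_distinguished _ mem i
  haveI : DerivedCategory.IsGE (Y⟦i⟧) (((s + d : ℕ) : ℤ) + 1 - i) :=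
    DerivedCategory.TStructure.t.isGE_shift Y (((s + d : ℕ) : ℤ) + 1) i (((s + d : ℕ) : ℤ) + 1 - i) (by omega)
  obtain ⟨z, hz⟩ := Triangle.coyoneda_exact₂ T hT w
    (DerivedCategory.TStructure.t.zero_of_isLE_of_isGE (w ≫ T.mor₂) (d : ℤ) (((s + d : ℕ) : ℤ) + 1 - i)
      (by push_cast; omega) inferInstance (by assumption))
  have hzero : f ^ N • 𝟙 T.obj₁ = 0 := by
    show f ^ N • 𝟙 (X'⟦i⟧) = 0
    rw [← CategoryTheory.Functor.map_id, ← Functor.map_smul, hN, Functor.map_zero]
  rw [hz]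
  have hz0 : f ^ N • z = 0 := by
    rw [← Category.comp_id z, ← Linear.comp_smul, hzero, comp_zero]
  exact (Linear.smul_comp _ _ _ (f ^ N) z T.mor₁).symm.trans ((congrArg (· ≫ T.mor₁) hz0).trans zero_comp)

/-- The prime avoiding form of Faltings' theorem. -/
theorem exists_notMem_killing {ω : Dual.D A} (hω : Dual.IsDualizing A ω) (K : Ideal A) (M : Type u) [AddCommGroup M]
    [Module A M] [Module.Finite A M] (p : PrimeSpectrum A) (n : ℕ)
    (h : ∀ r : PrimeSpectrum A, r ≤ p → ∀ q : PrimeSpectrum A, r ≤ q → K ≤ q.asIdeal →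
      (n : WithBot ℕ∞) < ((LocCoh.depth (Localization.AtPrime r.asIdeal)
        (LocalizedModule r.asIdeal.primeCompl M) : ℕ∞) : WithBot ℕ∞) + Order.krullDim (Set.Icc r q)) :
    ∃ f : A, f ∉ p.asIdeal ∧ ∀ j : ℕ, j ≤ n → ∀ x : LocCoh.H K j M, f • x = 0 := by
  let T' : Set (PrimeSpectrum A) := {r | ¬ r ≤ p}
  have hT' : StableUnderSpecialization T' := fun x y hxy hx hy =>
    hx (((PrimeSpectrum.le_iff_specializes x y).2 hxy).trans hy)
  obtain ⟨J, hJ, hJk⟩ := (annihilator_iff (M := M) hω (T := zeroLocus (K : Set A))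
    (isClosed_zeroLocus _).stableUnderSpecialization hT' n).2
    fun r q hr hq hrq => h r (not_not.1 hr) q hrq hq
  obtain ⟨f, hfJ, hfp⟩ := SetLike.not_le_iff_exists.1 (fun hle : J ≤ p.asIdeal => hJ hle le_rfl)
  exact ⟨f, hfp, fun j hj => (killed_zeroLocus_iff K f j (ModuleCat.of A M)).1 fun y => hJk j hj f hfJ y⟩

end GrothLib.KillCompl3
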