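import Groth.Agent.Lib.KillCompl3.Basic
import Groth.Agent.Lib.AlgzBoot3.Basic

/-!
# Depth along generalisations
-/

set_option autoImplicit false
set_option linter.style.haveILetI false
universe u

open CategoryTheory PrimeSpectrum GrothLib.DualCx22 GrothLib.DualRing GrothLib.FaltingsT3

attribute [local instance] HasDerivedCategory.standard

namespace GrothLib.KillCompl3

variable {A : Type u} [CommRing A] [IsNoetherianRing A] [IsLocalRing A] {ω : Dual.D A} (hω : Dual.IsDualizing A ω)
  (M : Type u) [AddCommGroup M] [Module A M] [Module.Finite A M]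

omit [IsNoetherianRing A] in
theorem ringKrullDim_quotient_eq (p : PrimeSpectrum A) :
    ringKrullDim (A ⧸ p.asIdeal) = Order.krullDim (Set.Icc p (IsLocalRing.closedPoint A)) :=
  Order.krullDim_eq_of_orderIso (p.asIdeal.primeSpectrumQuotientOrderIsoZeroLocus.trans
    (OrderIso.setCongr _ _ (Set.ext fun q => ⟨fun h => ⟨h, IsLocalRing.le_maximalIdeal q.2.ne_top⟩, fun h => h.1⟩)))

include hω in
/-- Depth plus coheight does not drop along generalisations. -/
theorem lt_depth_add_of_le {r p : PrimeSpectrum A} (hr : r ≤ p) (n : ℕ)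
    (h : ((n : ℕ∞) : WithBot ℕ∞) < ((AlgzBoot3.dep M p : ℕ∞) : WithBot ℕ∞) + ringKrullDim (A ⧸ p.asIdeal)) :
    (n : WithBot ℕ∞) < ((AlgzBoot3.dep M r : ℕ∞) : WithBot ℕ∞) +
      Order.krullDim (Set.Icc r (IsLocalRing.closedPoint A)) := by
  have hpm : p ≤ IsLocalRing.closedPoint A := IsLocalRing.le_maximalIdeal p.2.ne_top
  have hrm : r ≤ IsLocalRing.closedPoint A := IsLocalRing.le_maximalIdeal r.2.ne_top
  rw [ringKrullDim_quotient_eq, krullDim_Icc hω hpm] at h
  rw [krullDim_Icc hω hrm]
  by_cases hrM : r ∈ Module.support A M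
  swap
  · haveI : Subsingleton (LocalizedModule r.asIdeal.primeCompl M) := Module.notMem_support_iff.mp hrM
    rw [show AlgzBoot3.dep M r = ⊤ from GrothLib.Depth.depth_eq_top_of_subsingleton _]
    exact WithBot.coe_lt_coe.2 (by simp)
  obtain ⟨kr, hkr, hmem, -, -⟩ := exists_degrees hω r M hrM
  have hpmem : p ∈ Module.support A (EH ω (Dual.inD A M) (deg hω r.asIdeal - kr)) := Module.mem_support_mono hr hmem
  obtain ⟨kp, hkp, -, hle, -⟩ := exists_degrees hω p M (AlgzBoot3.mem_support_of_EH M hpmem)
  have h1 := hle _ hpmem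
  rw [show AlgzBoot3.dep M r = kr from hkr]
  rw [show AlgzBoot3.dep M p = kp from hkp] at h
  have h2 : n < kp + (deg hω (IsLocalRing.closedPoint A).asIdeal - deg hω p.asIdeal).toNat := by exact_mod_cast h
  have h3 := (degS_strictMono hω).monotone hpm
  have h4 := (degS_strictMono hω).monotone hr
  simp only [degS] at h3 h4
  have : n < kr + (deg hω (IsLocalRing.closedPoint A).asIdeal - deg hω r.asIdeal).toNat := by omega
  exact_mod_cast this

end GrothLib.KillCompl3
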